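import Mathlib
import Groth.Agent.UnipHopfLib.Points
import Groth.Agent.ComodLib.Coeff
import Groth.Agent.GrpSchLib.HopfReduced
import Groth.Prelude

/-!
Infinitesimal description of the action of a unipotent group in characteristic zero.
-/

set_option autoImplicit false
set_option maxHeartbeats 1000000

noncomputable section

universe u v

open TensorProduct HopfRep WithConv
open scoped ComodLib

namespace Groth.Agent.MuSub

variable {k : Type u} [Field k] [CharZero k] {A : Type u} [CommRing A] [HopfAlgebra k A]

local notation "𝔸" => ComodLib.Dual' k A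

/-- A tangent vector as a functional. -/
def lieFn (ξ : LieHopf.Lie k A) : 𝔸 := toConv
  { toFun := fun a => ξ a
    map_add' := fun a b => map_add ξ a b
    map_smul' := fun c a => (ξ.toLinearMap.restrictScalars k).map_smul c a }

omit [CharZero k] in
lemma lieFn_one (ξ : LieHopf.Lie k A) : (lieFn ξ).ofConv (1 : A) = 0 := ξ.map_one_eq_zero

/-- The right unit isomorphism for the residue module at the origin. -/
def ridK (R : Type v) [AddCommGroup R] [Module k R] : R ⊗[k] LieHopf.K k A ≃ₗ[k] R := TensorProduct.rid k R

omit [CharZero k] in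
lemma ridK_tmul {R : Type v} [AddCommGroup R] [Module k R] (x : R) (c : LieHopf.K k A) :
    ridK R (x ⊗ₜ[k] c) = (show k from c) • x := rfl

omit [CharZero k] in
lemma slice_lieFn {R : Type u} [AddCommGroup R] [Module k R] (ξ : LieHopf.Lie k A) (z : R ⊗[k] A) :
    ComodLib.slice (lieFn ξ).ofConv z = ridK R (LinearMap.lTensor R (ξ.toLinearMap.restrictScalars k) z) := by
  induction z using TensorProduct.induction_on with
  | zero => rw [map_zero, map_zero, map_zero]
  | add z z' hz hz' => rw [map_add, map_add, map_add, hz, hz']
  | tmul x y => rw [LinearMap.lTensor_tmul, ComodLib.slice_tmul, ridK_tmul]; rfl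

/-- A point of a unipotent group lies on a flow generated by a tangent vector. -/
theorem exists_flow (hU : IsUnipotent k A) (g : WithConv (A →ₐ[k] k)) :
    ∃ (φ : A →ₐ[k] Polynomial k) (ξ : LieHopf.Lie k A),
      (∀ a, (φ a).eval 0 = CoalgebraStruct.counit (R := k) a) ∧ (∀ a, (φ a).eval 1 = g.ofConv a) ∧
      ∀ a, Polynomial.derivative (φ a) = φ (lieFn ξ • a) := by
  obtain ⟨φ, hφ⟩ := UnipHopf.exists_path (fun a => UnipHopf.exhaustive_of_isUnipotent hU a) g
  have h0 : ∀ a, (φ a).eval 0 = CoalgebraStruct.counit (R := k) a := fun a => by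
    have := hφ 0 a
    rw [Nat.cast_zero, pow_zero] at this
    exact this
  have h1 : ∀ a, (φ a).eval 1 = g.ofConv a := fun a => by
    have := hφ 1 a
    rw [Nat.cast_one, pow_one] at this
    exact this
  let D : A →ₗ[k] k :=
    { toFun := fun a => (Polynomial.derivative (φ a)).eval 0
      map_add' := fun a b => by simp
      map_smul' := fun c a => by simp [Polynomial.derivative_smul] }
  let ξ : LieHopf.Lie k A := Derivation.mk'
    { toFun := fun a => D a
      map_add' := fun a b => map_add D a b
      map_smul' := fun c a => map_smul D c a }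
    (fun a b => by
      show (Polynomial.derivative (φ (a * b))).eval 0 =
        (Bialgebra.counitAlgHom k A a) * D b + (Bialgebra.counitAlgHom k A b) * D a
      rw [map_mul, Polynomial.derivative_mul, Polynomial.eval_add, Polynomial.eval_mul, Polynomial.eval_mul, h0, h0,
        Bialgebra.counitAlgHom_apply, Bialgebra.counitAlgHom_apply]
      show _ = _ * (Polynomial.derivative (φ b)).eval 0 + _ * (Polynomial.derivative (φ a)).eval 0
      ring)
  refine ⟨φ, ξ, h0, h1, fun a => UnipHopf.poly_ext fun m => ?_⟩
  let T : A ⊗[k] A →ₗ[k] Polynomial k := TensorProduct.lift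
    (LinearMap.mk₂ k (fun x y => (φ x).eval (m : k) • φ y)
      (fun x x' y => by simp [add_smul])
      (fun c x y => by simp [mul_smul])
      (fun x y y' => by simp [smul_add])
      (fun c x y => by rw [map_smul, smul_comm]))
  have hT : T (CoalgebraStruct.comul (R := k) a) = (φ a).comp (Polynomial.X + Polynomial.C (m : k)) :=
    UnipHopf.poly_ext fun n => by
      rw [Polynomial.eval_comp, Polynomial.eval_add, Polynomial.eval_X, Polynomial.eval_C, add_comm,
        ← Nat.cast_add, hφ]
      show _ = UnipHopf.pointF (g ^ (m + n)) a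
      rw [pow_add, show UnipHopf.pointF (g ^ m * g ^ n) = UnipHopf.pointF (g ^ m) * UnipHopf.pointF (g ^ n) by
        rw [← pow_add, UnipHopf.pointF_pow, UnipHopf.pointF_pow, UnipHopf.pointF_pow, pow_add],
        LinearMap.convMul_apply]
      generalize CoalgebraStruct.comul (R := k) a = z
      induction z using TensorProduct.induction_on with
      | zero => simp
      | add z z' hz hz' => simp only [map_add, Polynomial.eval_add, hz, hz']
      | tmul x y =>
        simp only [T, TensorProduct.lift.tmul, LinearMap.mk₂_apply, Polynomial.eval_smul, smul_eq_mul, hφ,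
          TensorProduct.map_tmul, LinearMap.mul'_apply]
        rfl
  have hd : (Polynomial.derivative (φ a)).eval (m : k) =
      (Polynomial.derivative (T (CoalgebraStruct.comul (R := k) a))).eval 0 := by
    rw [hT, Polynomial.derivative_comp]
    simp
  rw [hd, ComodLib.smul_eq, show Comod.coact (k := k) (A := A) a = CoalgebraStruct.comul (R := k) a from rfl]
  generalize CoalgebraStruct.comul (R := k) a = z
  induction z using TensorProduct.induction_on with
  | zero => simp
  | add z z' hz hz' => simp only [map_add, Polynomial.eval_add, hz, hz']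
  | tmul x y =>
    rw [ComodLib.slice_tmul, map_smul, Polynomial.eval_smul, smul_eq_mul]
    simp only [T, TensorProduct.lift.tmul, LinearMap.mk₂_apply, Polynomial.derivative_smul, Polynomial.eval_smul,
      smul_eq_mul]
    exact mul_comm _ _

/-- A polynomial family closed under differentiation vanishing at zero is zero. -/
theorem flow_eq_zero {ι : Type v} (P : ι → Polynomial k) (τ : ι → ι) (hP : ∀ i, Polynomial.derivative (P i) = P (τ i))
    (h0 : ∀ i, (P i).eval 0 = 0) (i : ι) : P i = 0 := by
  refine Polynomial.ext fun n => ?_
  rw [Polynomial.coeff_zero]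
  induction n generalizing i with
  | zero => rw [Polynomial.coeff_zero_eq_eval_zero]; exact h0 i
  | succ n ih =>
    have h := congrArg (fun q => Polynomial.coeff q n) (hP i)
    simp only [Polynomial.coeff_derivative, ih] at h
    exact (mul_eq_zero.1 h).resolve_right (Nat.cast_add_one_ne_zero n)

variable [IsAlgClosed k] [Algebra.FiniteType k A]

/-- Two families of coefficients with the same infinitesimal behaviour agree. -/
theorem eq_of_flow (hU : IsUnipotent k A) {ι : Type v} (a b : ι → A) (τ : LieHopf.Lie k A → ι → ι)
    (ha : ∀ ξ i, lieFn ξ • a i = a (τ ξ i))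
    (hb : ∀ ξ i, lieFn ξ • b i = b (τ ξ i))
    (h0 : ∀ i, CoalgebraStruct.counit (R := k) (a i) = CoalgebraStruct.counit (R := k) (b i)) (i : ι) :
    a i = b i := by
  haveI : IsReduced A := GrpSchLib.HopfRed.isReduced_of_finiteType (k := k)
  refine sub_eq_zero.1 (isNilpotent_iff_eq_zero.1 (UnipHopf.isNilpotent_of_forall_point (L := k) fun g => ?_))
  obtain ⟨φ, ξ, hφ0, hφ1, hφd⟩ := exists_flow hU (toConv g)
  have h := flow_eq_zero (fun j => φ (a j - b j)) (τ ξ) (fun j => by rw [hφd, smul_sub, ha, hb])
    (fun j => by rw [hφ0, map_sub, h0, sub_self]) i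
  have h' := hφ1 (a i - b i)
  rw [show φ (a i - b i) = 0 from h, Polynomial.eval_zero] at h'
  exact h'.symm

end Groth.Agent.MuSub
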